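import Groth.Agent.Lib.ProjFormula.Iso

/-!
# The unit `M ⟶ f_* f^* M` for finite locally free `M` when `O_Y = f_* O_X`
-/

set_option autoImplicit false
universe u

open CategoryTheory CategoryTheory.Limits MonoidalCategory AlgebraicGeometry Opposite TopologicalSpace

namespace GrothLib.UnitLF26

open GrothLib.OX GrothLib.ProjFormula

variable {X Y : Scheme.{u}} (f : X ⟶ Y)

/-- The unit of the adjunction between pullback and pushforward, as a natural transformation. -/
noncomputable abbrev unitNat :
    𝟭 Y.Modules ⟶ Scheme.Modules.pullback f ⋙ Scheme.Modules.pushforward f :=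
  (Scheme.Modules.pullbackPushforwardAdjunction f).unit

theorem stalkIsoOn_pushPull' {E E' : Y.Modules} {a : E ⟶ E'} {U : Y.Opens} (h : StalkIsoOn a U) :
    StalkIsoOn ((Scheme.Modules.pushforward f).map ((Scheme.Modules.pullback f).map a)) U := by
  have h1 : StalkIsoOn ((Scheme.Modules.pullback f).map a) (f ⁻¹ᵁ U) := fun x hx => by
    have := h (f x) hx
    have h2 := (pullStalkIso f x).hom.naturality a
    have : IsIso ((stalk (f x) ⋙ ModuleCat.extendScalars (f.stalkMap x).hom).map a) := by
      rw [Functor.comp_map]; infer_instance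
    exact ((MorphismProperty.isomorphisms _).arrow_mk_iso_iff
      (Arrow.isoMk ((pullStalkIso f x).app E) ((pullStalkIso f x).app E') h2.symm)).2 this
  exact stalkIsoOn_of_bijective fun W hW => bijective_app_of_stalkIsoOn h1 (f.preimage_mono hW)

theorem stalkIsoOn_unit_iff {E E' : Y.Modules} {a : E ⟶ E'} {U : Y.Opens} (h : StalkIsoOn a U) :
    StalkIsoOn ((unitNat f).app E) U ↔ StalkIsoOn ((unitNat f).app E') U := by
  refine forall₂_congr fun y hy => ?_
  have h1 := h y hy
  have h2 := stalkIsoOn_pushPull' f h y hy
  have e : (stalk y).map a ≫ (stalk y).map ((unitNat f).app E') =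
      (stalk y).map ((unitNat f).app E) ≫
        (stalk y).map ((Scheme.Modules.pushforward f).map ((Scheme.Modules.pullback f).map a)) := by
    rw [← Functor.map_comp, ← Functor.map_comp]
    exact congrArg (stalk y).map ((unitNat f).naturality a)
  constructor
  · intro hE
    have : IsIso ((stalk y).map a ≫ (stalk y).map ((unitNat f).app E')) := by rw [e]; infer_instance
    exact IsIso.of_isIso_comp_left ((stalk y).map a) _
  · intro hE'
    have : IsIso ((stalk y).map ((unitNat f).app E) ≫
        (stalk y).map ((Scheme.Modules.pushforward f).map ((Scheme.Modules.pullback f).map a))) := by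
      rw [← e]; infer_instance
    exact IsIso.of_isIso_comp_right _
      ((stalk y).map ((Scheme.Modules.pushforward f).map ((Scheme.Modules.pullback f).map a)))

variable (hf : ∀ U : Y.Opens, Function.Bijective (f.app U))

include hf

theorem isIso_unit_structureModule : IsIso ((unitNat f).app (Coh.structureModule Y)) := by
  let g : Coh.structureModule Y ⟶ (Scheme.Modules.pushforward f).obj (Coh.structureModule X) :=
    (unitNat f).app _ ≫ (Scheme.Modules.pushforward f).map (pullUnitIso f).hom
  have hg : IsIso g := by
    refine Scheme.Modules.Hom.isIso_iff_isIso_app.mpr fun U => (ConcreteCategory.isIso_iff_bijective _).mpr ?_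
    have hU := hf U
    have : (g.app U : _ → _) = fun r : Γ(Y, U) => (f.app U).hom r := by
      funext r
      exact pullUnitIso_pullSec f U r
    rw [this]
    exact hU
  haveI : IsIso ((unitNat f).app (Coh.structureModule Y) ≫ (Scheme.Modules.pushforward f).map (pullUnitIso f).hom) := hg
  exact IsIso.of_isIso_comp_right _ ((Scheme.Modules.pushforward f).map (pullUnitIso f).hom)

theorem isIso_unit {E : Y.Modules} (hE : FlatMod.IsFinLocFree E) : IsIso ((unitNat f).app E) := by
  have hfree : ∀ n : ℕ, IsIso ((unitNat f).app (FlatMod.freeMod Y n)) := fun n => by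
    let M : Fin n → Y.Modules := fun _ => Coh.structureModule Y
    have : HasFiniteBiproducts Y.Modules := HasFiniteBiproducts.of_hasFiniteCoproducts
    haveI : (Scheme.Modules.pullback f ⋙ Scheme.Modules.pushforward f).Additive := inferInstance
    let e : (⨁ M) ≅ FlatMod.freeMod Y n := biproduct.isoCoproduct M
    have := ProjFormula.isIso_app_biproduct (unitNat f) M fun _ => isIso_unit_structureModule f hf
    exact (NatTrans.isIso_app_iff_of_iso (unitNat f) e).1 this
  refine (OX.isIso_iff _).2 fun y => ?_
  obtain ⟨U, n, hy, ⟨e⟩⟩ := hE y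
  let e' : (FlatMod.freeMod Y n).restrict U.ι ≅ FlatMod.freeMod U.toScheme n :=
    (Scheme.Modules.restrictFunctorIsoPullback U.ι).app _ ≪≫ pullFreeModIso U.ι n
  let adj := Scheme.Modules.restrictAdjunction U.ι
  have hc : ∀ {M : Y.Modules} (c : M.restrict U.ι ≅ FlatMod.freeMod U.toScheme n),
      StalkIsoOn (adj.unit.app M ≫ (Scheme.Modules.pushforward U.ι).map c.hom) U := fun {M} c z hz => by
    have := ProjFormula.stalkIsoOn_unit U M z hz
    rw [Functor.map_comp]; infer_instance
  have hb : StalkIsoOn ((unitNat f).app (FlatMod.freeMod Y n)) U := fun z _ =>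
    have := hfree n; inferInstance
  exact (stalkIsoOn_unit_iff f (hc e)).2 ((stalkIsoOn_unit_iff f (hc e')).1 hb) y hy

theorem isPullback_iff (E : X.Modules) :
    (∃ M : Y.Modules, FlatMod.IsFinLocFree M ∧ Nonempty (E ≅ (Scheme.Modules.pullback f).obj M)) ↔
      (FlatMod.IsFinLocFree ((Scheme.Modules.pushforward f).obj E) ∧
        IsIso ((Scheme.Modules.pullbackPushforwardAdjunction f).counit.app E)) := by
  let adj := Scheme.Modules.pullbackPushforwardAdjunction f
  constructor
  · rintro ⟨M, hM, ⟨e⟩⟩
    haveI := isIso_unit f hf hM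
    let d : M ≅ (Scheme.Modules.pushforward f).obj E :=
      asIso ((unitNat f).app M) ≪≫ (Scheme.Modules.pushforward f).mapIso e.symm
    refine ⟨fun y => ?_, ?_⟩
    · obtain ⟨U, n, hy, ⟨φ⟩⟩ := hM y
      exact ⟨U, n, hy, ⟨(Scheme.Modules.restrictFunctor U.ι).mapIso d.symm ≪≫ φ⟩⟩
    · have h1 := adj.left_triangle_components M
      haveI : IsIso (adj.counit.app ((Scheme.Modules.pullback f).obj M)) := by
        haveI : IsIso (adj.unit.app M) := isIso_unit f hf hM
        haveI : IsIso ((Scheme.Modules.pullback f).map (adj.unit.app M) ≫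
            adj.counit.app ((Scheme.Modules.pullback f).obj M)) := by rw [h1]; infer_instance
        exact IsIso.of_isIso_comp_left ((Scheme.Modules.pullback f).map (adj.unit.app M)) _
      exact (NatTrans.isIso_app_iff_of_iso adj.counit e.symm).1 inferInstance
  · rintro ⟨h1, h2⟩
    exact ⟨_, h1, ⟨(asIso (adj.counit.app E)).symm⟩⟩

end GrothLib.UnitLF26
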